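import Mathlib.Topology.KrullDimension
import Mathlib.Topology.Sober

/-!
# Krull dimension and lifting of chains
-/

namespace Groth.Agent.DimLift

open Order TopologicalSpace

theorem exists_lift_series {α β : Type*} [Preorder α] [Preorder β] (g : α → β) (hg : Function.Surjective g)
    (hlift : ∀ a b, g a < b → ∃ a', a < a' ∧ g a' = b) (n : ℕ) :
    ∀ l : LTSeries β, l.length = n → ∃ m : LTSeries α, m.length = n ∧ g m.last = l.last := by
  induction n with
  | zero =>
    intro l _
    obtain ⟨a, ha⟩ := hg l.last
    exact ⟨RelSeries.singleton _ a, rfl, by simpa using ha⟩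
  | succ n ih =>
    intro l hl
    obtain ⟨m, hm, hml⟩ := ih l.eraseLast (by simp [RelSeries.eraseLast, hl])
    obtain ⟨a', ha', hga⟩ := hlift m.last l.last (by
      rw [hml]; exact RelSeries.eraseLast_last_rel_last l (by omega))
    exact ⟨m.snoc a' ha', by simp [RelSeries.snoc, RelSeries.append, hm], by simpa using hga⟩

theorem krullDim_le_of_lift {α β : Type*} [Preorder α] [Preorder β] (g : α → β) (hg : Function.Surjective g)
    (hlift : ∀ a b, g a < b → ∃ a', a < a' ∧ g a' = b) : krullDim β ≤ krullDim α := by
  refine iSup_le fun l => ?_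
  obtain ⟨m, hm, -⟩ := exists_lift_series g hg hlift _ l rfl
  rw [← hm]
  exact LTSeries.length_le_krullDim m

attribute [local instance] specializationOrder

variable {X Y : Type*} [TopologicalSpace X] [TopologicalSpace Y] [QuasiSober X] [T0Space X] [QuasiSober Y] [T0Space Y]

theorem topologicalKrullDim_eq_points : topologicalKrullDim X = krullDim X :=
  krullDim_eq_of_orderIso irreducibleSetEquivPoints

theorem lt_iff_specializes {x y : X} : x < y ↔ y ⤳ x ∧ x ≠ y :=
  lt_iff_le_and_ne

/-- A surjection along which specializations lift does not lower the dimension. -/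
theorem le_of_specializing (f : X → Y) (hs : Function.Surjective f) (h : SpecializingMap f) :
    topologicalKrullDim Y ≤ topologicalKrullDim X := by
  rw [topologicalKrullDim_eq_points, topologicalKrullDim_eq_points, ← krullDim_orderDual (α := Y),
    ← krullDim_orderDual (α := X)]
  refine krullDim_le_of_lift (fun a : Xᵒᵈ => OrderDual.toDual (f (OrderDual.ofDual a))) (fun b => hs (OrderDual.ofDual b))
    fun a b hab => ?_
  obtain ⟨hsp, hne⟩ := lt_iff_specializes.mp (OrderDual.toDual_lt_toDual.mp
    (show OrderDual.toDual (f (OrderDual.ofDual a)) < OrderDual.toDual (OrderDual.ofDual b) from hab))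
  obtain ⟨a', ha', rfl⟩ := h (a := OrderDual.ofDual a) (b := OrderDual.ofDual b) hsp
  exact ⟨OrderDual.toDual a', lt_iff_specializes (x := a') (y := OrderDual.ofDual a) |>.mpr
    ⟨ha', fun e => hne (congrArg f e)⟩, rfl⟩

/-- A surjection along which generalizations lift does not lower the dimension. -/
theorem le_of_generalizing (f : X → Y) (hs : Function.Surjective f) (h : GeneralizingMap f) :
    topologicalKrullDim Y ≤ topologicalKrullDim X := by
  rw [topologicalKrullDim_eq_points, topologicalKrullDim_eq_points]
  refine krullDim_le_of_lift f hs fun a b hab => ?_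
  obtain ⟨hsp, hne⟩ := lt_iff_specializes.mp hab
  obtain ⟨a', ha', rfl⟩ := h hsp
  exact ⟨a', lt_iff_specializes.mpr ⟨ha', fun e => hne (congrArg f e)⟩, rfl⟩

/-- A continuous map with incomparable fibres does not lower the dimension. -/
theorem le_of_incomparable (f : X → Y) (hf : Continuous f) (h : ∀ x x', x ⤳ x' → f x = f x' → x = x') :
    topologicalKrullDim X ≤ topologicalKrullDim Y := by
  rw [topologicalKrullDim_eq_points, topologicalKrullDim_eq_points]
  exact krullDim_le_of_strictMono f fun x y hxy => lt_iff_specializes.mpr
    ⟨(lt_iff_specializes.mp hxy).1.map hf, fun e =>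
      (lt_iff_specializes.mp hxy).2 (h y x (lt_iff_specializes.mp hxy).1 e.symm).symm⟩

end Groth.Agent.DimLift
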